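import Mathlib

set_option autoImplicit false
set_option linter.unusedSectionVars false
universe u

open Polynomial TensorProduct CommRing

namespace Groth.Agent.PicCone31

variable {A : Type u} [CommRing A] [IsDomain A] [IsIntegrallyClosed A]

/-- Gauss's lemma over an integrally closed domain -/
theorem coeff_mul_coeff_dvd {c : A} {f h : A[X]} (hd : C c ∣ f * h) (i j : ℕ) :
    c ∣ f.coeff i * h.coeff j := by
  classical
  rcases eq_or_ne c 0 with rfl | hc
  · rcases (by simpa using hd : f = 0 ∨ h = 0) with rfl | rfl <;> simp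
  let K := FractionRing A
  let R : Subring K := (algebraMap A K).range
  have hinj : Function.Injective (algebraMap A K) := IsFractionRing.injective A K
  have hcK : algebraMap A K c ≠ 0 := (map_ne_zero_iff _ hinj).2 hc
  have : IsIntegrallyClosedIn R K := by
    rw [Subring.isIntegrallyClosedIn_iff]
    intro x hx
    have h1 : IsIntegral A x := by
      obtain ⟨p, hp, hpx⟩ := hx
      have hsurj : Function.Surjective (algebraMap A K).rangeRestrict := RingHom.rangeRestrict_surjective _
      obtain ⟨q, hq, -, hqm⟩ := Polynomial.lifts_and_natDegree_eq_and_monic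
        ((Polynomial.mem_lifts _).2 (Polynomial.map_surjective _ hsurj p)) hp
      refine ⟨q, hqm, ?_⟩
      rw [← hq, Polynomial.eval₂_map] at hpx
      exact hpx
    obtain ⟨a, ha⟩ := IsIntegrallyClosed.isIntegral_iff.1 h1
    exact ⟨a, ha⟩
  suffices hx : algebraMap A K (f.coeff i * h.coeff j) / algebraMap A K c ∈ R by
    obtain ⟨a, ha⟩ := hx
    exact ⟨a, hinj (by rw [map_mul (algebraMap A K) c, ha, mul_div_cancel₀ _ hcK])⟩
  by_contra hx
  obtain ⟨V, hRV, hxV⟩ := Subring.exists_le_valuationSubring_of_isIntegrallyClosedIn hx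
  apply hxV
  let v := V.valuation
  let w : A → V.ValueGroup := fun a => v (algebraMap A K a)
  rcases eq_or_ne f 0 with rfl | hf
  · simp [V.zero_mem]
  rcases eq_or_ne h 0 with rfl | hh
  · simp [V.zero_mem]
  have hex : ∀ g : A[X], g ≠ 0 → ∃ n, 0 < w (g.coeff n) ∧ (∀ m, w (g.coeff m) ≤ w (g.coeff n)) ∧
      ∀ m < n, w (g.coeff m) < w (g.coeff n) := by
    intro g hg
    obtain ⟨m0, hm0, hmax⟩ := Finset.exists_max_image g.support (fun m => w (g.coeff m))
      (Polynomial.support_nonempty.2 hg)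
    have hall : ∀ m, w (g.coeff m) ≤ w (g.coeff m0) := fun m => by
      by_cases hm : m ∈ g.support
      · exact hmax m hm
      · simp [w, Polynomial.notMem_support_iff.1 hm]
    have hne : ∃ n, w (g.coeff m0) ≤ w (g.coeff n) := ⟨m0, le_rfl⟩
    refine ⟨Nat.find hne, lt_of_lt_of_le ?_ (Nat.find_spec hne), fun m => (hall m).trans (Nat.find_spec hne),
      fun m hm => lt_of_lt_of_le (not_le.1 (Nat.find_min hne hm)) (Nat.find_spec hne)⟩
    exact zero_lt_iff.2 ((Valuation.ne_zero_iff v).2 ((map_ne_zero_iff _ hinj).2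
      (Polynomial.mem_support_iff.1 hm0)))
  obtain ⟨i0, hi0, hi1, hi2⟩ := hex f hf
  obtain ⟨j0, hj0, hj1, hj2⟩ := hex h hh
  have hw : ∀ a b, w (a * b) = w a * w b := fun a b => by simp [w]
  have hkey : w ((f * h).coeff (i0 + j0)) = w (f.coeff i0) * w (h.coeff j0) := by
    rw [Polynomial.coeff_mul]
    simp only [w, map_sum]
    rw [Valuation.map_sum_eq_of_lt v (j := (i0, j0)) (by simp)]
    · simp
    · intro p hp
      simp only [Finset.mem_sdiff, Finset.HasAntidiagonal.mem_antidiagonal, Finset.mem_singleton] at hp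
      show w (f.coeff p.1 * h.coeff p.2) < w (f.coeff i0 * h.coeff j0)
      rw [hw, hw]
      rcases lt_trichotomy p.1 i0 with hlt | heq | hgt
      · calc w (f.coeff p.1) * w (h.coeff p.2) ≤ w (f.coeff p.1) * w (h.coeff j0) :=
              mul_le_mul_right (hj1 _) _
          _ < w (f.coeff i0) * w (h.coeff j0) := mul_lt_mul_of_pos_right (hi2 _ hlt) hj0
      · exact absurd (Prod.ext heq (by omega)) hp.2
      · have h2 : p.2 < j0 := by omega
        calc w (f.coeff p.1) * w (h.coeff p.2) ≤ w (f.coeff i0) * w (h.coeff p.2) :=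
              mul_le_mul_left (hi1 _) _
          _ < w (f.coeff i0) * w (h.coeff j0) := mul_lt_mul_of_pos_left (hj2 _ h2) hi0
  obtain ⟨z, hz⟩ := hd
  have hle : w (f.coeff i * h.coeff j) ≤ w c := by
    rw [hw]
    refine (mul_le_mul' (hi1 i) (hj1 j)).trans ?_
    rw [← hkey, hz, Polynomial.coeff_C_mul, hw]
    exact mul_le_of_le_one_right' ((V.valuation_le_one_iff _).2 (hRV ⟨_, rfl⟩))
  rw [← V.valuation_le_one_iff, map_div₀]
  exact div_le_one_of_le₀ hle zero_le

/-- Every invertible ideal of `A[X]` meeting `A` is extended from `A`. -/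
theorem map_comap_eq (J : Ideal A[X]) [Module.Invertible A[X] J] {c : A} (hc : c ≠ 0) (hcJ : C c ∈ J) :
    (J.comap (C : A →+* A[X])).map C = J := by
  classical
  refine le_antisymm Ideal.map_comap_le fun f hf => ?_
  obtain ⟨n, π, hπ⟩ := Module.Finite.exists_fin' A[X] J
  obtain ⟨σ, hσ⟩ := Module.projective_lifting_property π LinearMap.id hπ
  let lam : Fin n → (J →ₗ[A[X]] A[X]) := fun i => (LinearMap.proj i).comp σ
  let m : Fin n → J := fun i => π (Pi.single i 1)
  have hrec : ∀ x : J, (x : A[X]) = ∑ i, lam i x * (m i : A[X]) := by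
    intro x
    have h1 : π (σ x) = x := LinearMap.congr_fun hσ x
    conv_lhs => rw [← h1, pi_eq_sum_univ' (σ x)]
    simp only [map_sum, map_smul, AddSubmonoidClass.coe_finsetSum, Submodule.coe_smul, smul_eq_mul]
    rfl
  have hlin : ∀ (i : Fin n) (x y : J), lam i x * (y : A[X]) = (x : A[X]) * lam i y := by
    intro i x y
    have e : (y : A[X]) • x = (x : A[X]) • y :=
      Subtype.ext (mul_comm (y : A[X]) (x : A[X]))
    have := congrArg (lam i) e
    rw [map_smul, map_smul, smul_eq_mul, smul_eq_mul] at this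
    rw [mul_comm, this]
  refine Ideal.mem_map_C_iff.2 fun k => ?_
  show C (f.coeff k) ∈ J
  have hz : ∀ i, C c ∣ C (f.coeff k) * lam i ⟨C c, hcJ⟩ := by
    intro i
    rw [Polynomial.C_dvd_iff_dvd_coeff]
    intro j
    rw [Polynomial.coeff_C_mul]
    exact coeff_mul_coeff_dvd ⟨lam i ⟨f, hf⟩, by
      rw [mul_comm (C c)]; exact (hlin i ⟨f, hf⟩ ⟨C c, hcJ⟩).symm⟩ k j
  choose z hz using hz
  have e : C c * C (f.coeff k) = C c * ∑ i, z i * (m i : A[X]) := by
    rw [Finset.mul_sum]
    conv_lhs => rw [show C c = ((⟨C c, hcJ⟩ : J) : A[X]) from rfl, hrec ⟨C c, hcJ⟩, Finset.sum_mul]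
    refine Finset.sum_congr rfl fun i _ => ?_
    rw [← mul_assoc, ← hz i]
    ring
  rw [mul_left_cancel₀ (C_ne_zero.2 hc) e]
  exact Ideal.sum_mem _ fun i _ => Ideal.mul_mem_left _ _ (m i).2

/-- multiplication by a nonzero element on ideals -/
noncomputable def spanMulEquiv {S : Type u} [CommRing S] [IsDomain S] {a : S} (ha : a ≠ 0) (I : Ideal S) :
    I ≃ₗ[S] (Ideal.span {a} * I : Ideal S) :=
  LinearEquiv.ofBijective
    (LinearMap.codRestrict _ ((LinearMap.mulLeft S a).comp I.subtype)
      fun x => Ideal.mul_mem_mul (Ideal.mem_span_singleton_self a) x.2)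
    ⟨fun x y h => Subtype.ext (mul_left_cancel₀ ha (congrArg Subtype.val h)), fun ⟨y, hy⟩ => by
      obtain ⟨z, hz, rfl⟩ := Ideal.mem_span_singleton_mul.1 hy
      exact ⟨⟨z, hz⟩, rfl⟩⟩

/-- for an integrally closed domain every class on the affine line comes from the base -/
theorem pic_surjective : Function.Surjective (Pic.mapAlgebra A A[X]) := by
  classical
  intro P
  obtain ⟨J, ⟨eJ⟩⟩ := Module.Invertible.exists_linearEquiv_ideal A[X] P
  have hJ : J ≠ ⊥ := by
    rintro rfl
    have hP : Subsingleton P := eJ.toEquiv.subsingleton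
    have : Subsingleton (Module.Dual A[X] P ⊗[A[X]] P) := inferInstance
    have : Subsingleton A[X] := (Module.Invertible.linearEquiv A[X] P).symm.toEquiv.subsingleton
    exact not_subsingleton A[X] this
  let K := FractionRing A
  letI : Algebra A[X] K[X] := (Polynomial.mapRingHom (algebraMap A K)).toAlgebra
  have : IsLocalization ((nonZeroDivisors A).map (C : A →+* A[X])) K[X] :=
    Polynomial.isLocalization (nonZeroDivisors A) K
  obtain ⟨g', hg'⟩ := (IsPrincipalIdealRing.principal (J.map (algebraMap A[X] K[X]))).principal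
  obtain ⟨⟨g, ⟨_, s, hs, rfl⟩⟩, hgs⟩ := IsLocalization.surj ((nonZeroDivisors A).map (C : A →+* A[X])) g'
  have hspan : J.map (algebraMap A[X] K[X]) = (Ideal.span {g}).map (algebraMap A[X] K[X]) := by
    rw [Ideal.map_span, Set.image_singleton, ← hgs, hg']
    exact (Ideal.span_singleton_mul_right_unit
      (IsLocalization.map_units K[X] (⟨C s, s, hs, rfl⟩ : (nonZeroDivisors A).map C)) g').symm
  have hmem : ∀ (I I' : Ideal A[X]), I.map (algebraMap A[X] K[X]) ≤ I'.map (algebraMap A[X] K[X]) →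
      ∀ x ∈ I, ∃ d : A, d ≠ 0 ∧ C d * x ∈ I' := by
    intro I I' hle x hx
    obtain ⟨_, ⟨d, hd, rfl⟩, hdx⟩ :=
      (IsLocalization.algebraMap_mem_map_algebraMap_iff ((nonZeroDivisors A).map (C : A →+* A[X])) K[X] I' x).1
        (hle (Ideal.mem_map_of_mem _ hx))
    exact ⟨d, nonZeroDivisors.ne_zero hd, hdx⟩
  obtain ⟨d, hd, hdg⟩ := hmem _ _ hspan.ge g (Ideal.mem_span_singleton_self g)
  have : Module.Invertible A[X] J := .congr eJ
  obtain ⟨G, hG⟩ := (Module.Finite.iff_fg.1 (inferInstance : Module.Finite A[X] J) : J.FG)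
  choose! b hb hbmem using fun x (hx : x ∈ J) => hmem _ _ hspan.le x hx
  set c := ∏ x ∈ G, b x with hc
  have hc0 : c ≠ 0 := Finset.prod_ne_zero_iff.2 fun x hx => hb x (hG ▸ Ideal.subset_span hx)
  have hcJ : ∀ x ∈ J, C c * x ∈ Ideal.span {g} := by
    intro x hx
    rw [← hG] at hx
    induction hx using Submodule.span_induction with
    | mem x hx =>
      rw [hc, ← Finset.mul_prod_erase G b hx, map_mul, mul_comm (C (b x)), mul_assoc]
      exact Ideal.mul_mem_left _ _ (hbmem x (hG ▸ Ideal.subset_span hx))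
    | zero => simp
    | add x y _ _ hx hy => rw [mul_add]; exact add_mem hx hy
    | smul a x _ hx => rw [smul_eq_mul, mul_left_comm]; exact Ideal.mul_mem_left _ _ hx
  have hg0 : g ≠ 0 := by
    rintro rfl
    obtain ⟨x, hx, hx0⟩ := Submodule.exists_mem_ne_zero_of_ne_bot hJ
    have := hcJ x hx
    rw [Ideal.mem_span_singleton, zero_dvd_iff] at this
    exact mul_ne_zero (C_ne_zero.2 hc0) hx0 this
  let J1 : Ideal A[X] := Submodule.comap (LinearMap.mulLeft A[X] g) (Ideal.span {C c} * J)
  have heq : Ideal.span {g} * J1 = Ideal.span {C c} * J := by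
    refine le_antisymm ?_ ?_
    · intro y hy
      obtain ⟨x, hx, rfl⟩ := Ideal.mem_span_singleton_mul.1 hy
      exact hx
    · intro y hy
      obtain ⟨x, hx, rfl⟩ := Ideal.mem_span_singleton_mul.1 hy
      obtain ⟨z, hz⟩ := Ideal.mem_span_singleton.1 (hcJ x hx)
      refine Ideal.mem_span_singleton_mul.2 ⟨z, ?_, hz.symm⟩
      show g * z ∈ Ideal.span {C c} * J
      rw [← hz]
      exact hy
  let e1 : J ≃ₗ[A[X]] J1 := (spanMulEquiv (C_ne_zero.2 hc0) J).trans
    ((LinearEquiv.ofEq _ _ heq.symm).trans (spanMulEquiv hg0 J1).symm)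
  have : Module.Invertible A[X] J1 := .congr e1
  have hcd : C (c * d) ∈ J1 := by
    show g * C (c * d) ∈ Ideal.span {C c} * J
    rw [map_mul, mul_left_comm, mul_comm g]
    exact Ideal.mul_mem_mul (Ideal.mem_span_singleton_self _) hdg
  have hext := map_comap_eq J1 (mul_ne_zero hc0 hd) hcd
  set J0 := J1.comap (C : A →+* A[X]) with hJ0
  -- the extended ideal as a tensor product
  let Φ : A[X] ⊗[A] J0 →ₗ[A[X]] A[X] :=
    ((TensorProduct.AlgebraTensorModule.rid A A[X] A[X]).toLinearMap).comp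
      (J0.subtype.baseChange A[X])
  have hΦt : ∀ (p : A[X]) (x : J0), Φ (p ⊗ₜ[A] x) = C (x : A) * p := fun p x => by
    simp [Φ, Polynomial.smul_eq_C_mul]
  have hΦinj : Function.Injective Φ :=
    (TensorProduct.AlgebraTensorModule.rid A A[X] A[X]).injective.comp
      (Module.Flat.lTensor_preserves_injective_linearMap J0.subtype Subtype.val_injective)
  have hΦrange : LinearMap.range Φ = J1 := by
    refine le_antisymm ?_ ?_
    · rintro _ ⟨z, rfl⟩
      induction z using TensorProduct.induction_on with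
      | zero => simp
      | tmul p x => rw [hΦt]; exact J1.mul_mem_right _ x.2
      | add x y hx hy => rw [map_add]; exact add_mem hx hy
    · conv_lhs => rw [← hext]
      refine Ideal.span_le.2 ?_
      rintro _ ⟨x, hx, rfl⟩
      exact ⟨1 ⊗ₜ[A] ⟨x, hx⟩, by rw [hΦt, mul_one]⟩
  let eT : A[X] ⊗[A] J0 ≃ₗ[A[X]] J1 := (LinearEquiv.ofInjective Φ hΦinj).trans (LinearEquiv.ofEq _ _ hΦrange)
  have hinv : Module.Invertible A[X] (A[X] ⊗[A] J0) := .congr eT.symm
  have : Module.Invertible A J0 := by
    letI : Algebra A[X] A := (Polynomial.evalRingHom 0).toAlgebra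
    have : IsScalarTower A A[X] A := IsScalarTower.of_algebraMap_eq fun a => (Polynomial.eval_C).symm
    exact .congr ((TensorProduct.AlgebraTensorModule.cancelBaseChange A A[X] A A J0).trans
      (TensorProduct.lid A J0))
  refine ⟨Pic.mk A J0, ?_⟩
  rw [Pic.mapAlgebra_apply, ← Pic.mk_eq_self (M := P), Pic.mk_eq_mk_iff]
  exact ⟨(TensorProduct.AlgebraTensorModule.congr (LinearEquiv.refl A[X] A[X])
    (Pic.mk.linearEquiv A J0)).trans (eT.trans (e1.symm.trans eJ.symm))⟩

/-- a cone over an integrally closed domain has trivial Picard group -/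
theorem free_of_cone (k : Type u) [Field k] (n : ℕ) (I : Ideal (MvPolynomial (Fin n) k))
    (hI : ∃ s : Set (MvPolynomial (Fin n) k), (∀ f ∈ s, ∃ d : ℕ, f.IsHomogeneous d) ∧ I = Ideal.span s)
    [IsDomain (MvPolynomial (Fin n) k ⧸ I)] [IsIntegrallyClosed (MvPolynomial (Fin n) k ⧸ I)]
    (M : Type u) [AddCommGroup M] [Module (MvPolynomial (Fin n) k ⧸ I) M]
    [Module.Invertible (MvPolynomial (Fin n) k ⧸ I) M] :
    Module.Free (MvPolynomial (Fin n) k ⧸ I) M := by
  classical
  obtain ⟨s, hs, hIs⟩ := hI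
  let R := MvPolynomial (Fin n) k ⧸ I
  let mkI : MvPolynomial (Fin n) k →ₐ[k] R := Ideal.Quotient.mkₐ k I
  let ψ : MvPolynomial (Fin n) k →ₐ[k] R[X] :=
    MvPolynomial.aeval fun i => C (mkI (MvPolynomial.X i)) * X
  have hhom : ∀ (f : MvPolynomial (Fin n) k) (d : ℕ), f.IsHomogeneous d → ψ f = C (mkI f) * X ^ d := by
    intro f d hf
    conv_lhs => rw [f.as_sum, map_sum]
    conv_rhs => rw [f.as_sum, map_sum, map_sum, Finset.sum_mul]
    refine Finset.sum_congr rfl fun m hm => ?_
    have hdeg : m.sum (fun _ e => e) = d := by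
      have := hf (MvPolynomial.mem_support_iff.1 hm)
      rw [← this]
      simp [Finsupp.weight, Finsupp.linearCombination, Finsupp.sum]
    simp only [ψ, MvPolynomial.aeval_monomial]
    rw [MvPolynomial.monomial_eq (a := f.coeff m), map_mul, map_finsuppProd, map_mul, map_finsuppProd]
    simp only [map_pow, Finsupp.prod]
    rw [Finset.prod_congr rfl (fun x _ => mul_pow (C (mkI (MvPolynomial.X x))) X (m x)),
      Finset.prod_mul_distrib]
    rw [← mul_assoc, Finset.prod_pow_eq_pow_sum, ← hdeg]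
    congr 1
  have hker : ∀ f ∈ I, ψ f = 0 := by
    intro f hf
    rw [hIs] at hf
    refine (Ideal.span_le (I := RingHom.ker ψ.toRingHom)).2 ?_ hf
    intro g hg
    obtain ⟨d, hd⟩ := hs g hg
    show ψ g = 0
    have h0 : mkI g = 0 := Ideal.Quotient.eq_zero_iff_mem.2 (hIs ▸ Ideal.subset_span hg)
    rw [hhom g d hd, h0, map_zero, zero_mul]
  let φ : R →ₐ[k] R[X] := Ideal.Quotient.liftₐ I ψ hker
  have hψ1 : ∀ f, (ψ f).eval 1 = mkI f := by
    intro f
    have : ((Polynomial.aeval (R := R) (1 : R)).restrictScalars k).comp ψ = mkI := by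
      apply MvPolynomial.algHom_ext
      intro i
      simp [ψ]
    simpa using AlgHom.congr_fun this f
  have hψ0 : ∀ f, (ψ f).eval 0 = algebraMap k R (MvPolynomial.constantCoeff f) := by
    intro f
    have : ((Polynomial.aeval (R := R) (0 : R)).restrictScalars k).comp ψ =
        (Algebra.ofId k R).comp (MvPolynomial.aeval (fun _ => (0 : k))) := by
      apply MvPolynomial.algHom_ext
      intro i
      simp [ψ]
    have h := AlgHom.congr_fun this f
    simpa [← MvPolynomial.aeval_zero'] using h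
  let e : R →+* k := Ideal.Quotient.lift I MvPolynomial.constantCoeff fun f hf => by
    apply (algebraMap k R).injective
    rw [map_zero, ← hψ0, hker f hf, Polynomial.eval_zero]
  have h1 : (Polynomial.evalRingHom (1 : R)).comp φ.toRingHom = RingHom.id R := by
    refine Ideal.Quotient.ringHom_ext (RingHom.ext fun f => ?_)
    exact hψ1 f
  have h0 : (Polynomial.evalRingHom (0 : R)).comp φ.toRingHom = (algebraMap k R).comp e := by
    refine Ideal.Quotient.ringHom_ext (RingHom.ext fun f => ?_)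
    exact hψ0 f
  rw [← Pic.mk_eq_one_iff_free]
  obtain ⟨N, hN⟩ := pic_surjective (A := R) (Pic.mapRingHom φ.toRingHom (Pic.mk R M))
  rw [← Pic.mapRingHom_algebraMap] at hN
  have hN' : ∀ a : R, Pic.mapRingHom ((Polynomial.evalRingHom a).comp φ.toRingHom) (Pic.mk R M) = N := by
    intro a
    rw [← Pic.mapRingHom_mapRingHom, ← hN, Pic.mapRingHom_mapRingHom]
    have : (Polynomial.evalRingHom a).comp (algebraMap R R[X]) = RingHom.id R :=
      RingHom.ext fun r => Polynomial.eval_C
    rw [this, Pic.mapRingHom_id_apply]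
  have hM := hN' 1
  rw [h1, Pic.mapRingHom_id_apply] at hM
  have hN0 := hN' 0
  rw [h0, ← Pic.mapRingHom_mapRingHom, Subsingleton.elim (Pic.mapRingHom e (Pic.mk R M)) 1, map_one] at hN0
  rw [hM, ← hN0]

end Groth.Agent.PicCone31
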